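import Cfsg.Agent.H646.BR.LinType
import Cfsg.Agent.H674.BR.Model

/-!
# S4829, polar spaces in linear type: the swap moves the fixed subspaces (helper88)

`semi_move` : `M` a semisimilarity `M (a v) = a ^ (r ^ i) M v` commuting with the Sylow subgroup `P`, `U` a `P`-invariant
totally singular subspace of dimension divisible by `d = ord_p q`. If `-1` is in `s r ^ i <q>` and not in `s <q>`, `M U ≠ U`.
-/

set_option autoImplicit false

open Module Subgroup Cfsg Polynomial
open Cfsg.Agent.H2.Pol Cfsg.Agent.H674.BR Cfsg.Agent.H646.BR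

namespace Cfsg.Agent.H88.CY

section Field

variable {F : Type*} [Field F] [Fintype F] {p : ℕ} [hp : Fact p.Prime] {f : F[X]} [hf : Fact (Irreducible f)]

/-- if `f` divides its Frobenius twist then `r ^ i` is in `<q>` modulo `p` -/
theorem twist_root {r : ℕ} [hr : Fact r.Prime] [CharP F r] (hfc : f ∣ cyclotomic p F)
    (hpF : p.Coprime (Fintype.card F)) {i : ℕ}
    (h0 : ∑ m ∈ Finset.range (f.natDegree + 1), algebraMap F (AdjoinRoot f) (f.coeff m ^ r ^ i) *
      AdjoinRoot.root f ^ m = 0) : ∃ k : ℕ, (r ^ i * Fintype.card F ^ k : ZMod p) = 1 := by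
  have _ : Finite (AdjoinRoot f) := Module.finite_of_finite F
  have hζ := primitive_root hfc hpF
  have _ : CharP (AdjoinRoot f) r := charP_of_injective_algebraMap (algebraMap F (AdjoinRoot f)).injective r
  set ζ := AdjoinRoot.root f with hζd
  have _ : ExpChar (AdjoinRoot f) r := ExpChar.prime hr.out
  obtain ⟨y, hy⟩ : ∃ y : AdjoinRoot f, y ^ r ^ i = ζ := by
    have h1 : Function.Injective (iterateFrobenius (AdjoinRoot f) r i) := iterateFrobenius_inj _ _ _
    obtain ⟨y, hy⟩ := (Finite.injective_iff_surjective.1 h1) ζ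
    exact ⟨y, hy⟩
  have hfrob : ∀ a b : AdjoinRoot f, (a + b) ^ r ^ i = a ^ r ^ i + b ^ r ^ i := fun a b => add_pow_char_pow ..
  have hsum : ∀ (u : Finset ℕ) (g : ℕ → AdjoinRoot f), (∑ m ∈ u, g m) ^ r ^ i = ∑ m ∈ u, g m ^ r ^ i := by
    intro u g
    induction u using Finset.cons_induction with
    | empty => rw [Finset.sum_empty, Finset.sum_empty, zero_pow (pow_ne_zero i hr.out.ne_zero)]
    | cons a u ha ih => rw [Finset.sum_cons, Finset.sum_cons, hfrob, ih]
  have hy0 : aeval y f = 0 := by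
    have h1 : (aeval y f) ^ r ^ i = 0 := by
      rw [← h0, aeval_eq_sum_range, hsum]
      refine Finset.sum_congr rfl fun m _ => ?_
      rw [Algebra.smul_def, mul_pow, ← map_pow, ← hy, ← pow_mul, ← pow_mul, mul_comm m]
    exact (pow_eq_zero_iff (pow_ne_zero i hr.out.ne_zero)).1 h1
  obtain ⟨k, hk⟩ := exists_pow_of_root hy0
  refine ⟨k, ?_⟩
  rw [← hζd] at hk
  have h2 : ζ ^ (r ^ i * Fintype.card F ^ k) = ζ ^ 1 := by
    rw [mul_comm, pow_mul, ← hk, hy, pow_one]
  have h3 : r ^ i * Fintype.card F ^ k ≠ 0 :=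
    mul_ne_zero (pow_ne_zero i hr.out.ne_zero) (pow_ne_zero k Fintype.card_ne_zero)
  obtain ⟨b, hb⟩ := Nat.exists_eq_succ_of_ne_zero h3
  have h4 : ζ ^ b = 1 := by
    have h5 : ζ ^ b * ζ = 1 * ζ := by rw [← pow_succ, ← Nat.succ_eq_add_one, ← hb, h2, pow_one, one_mul]
    exact mul_right_cancel₀ (hζ.ne_zero hp.out.ne_zero) h5
  have h5 : p ∣ b := (hζ.pow_eq_one_iff_dvd _).1 h4
  have h6 : ((r ^ i * Fintype.card F ^ k : ℕ) : ZMod p) = 1 := by
    rw [hb, Nat.succ_eq_add_one, Nat.cast_add, (ZMod.natCast_eq_zero_iff b p).2 h5, zero_add, Nat.cast_one]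
  rw [← h6]
  push_cast
  rfl

end Field

/-- a semilinear bijection commuting with a root of `f` -/
theorem twist_end {F : Type*} [Field F] [Fintype F] {p : ℕ} [hp : Fact p.Prime] {f : F[X]} (hf : Irreducible f) {r : ℕ}
    [hr : Fact r.Prime] [CharP F r] (hfc : f ∣ cyclotomic p F) (hpF : p.Coprime (Fintype.card F)) {i : ℕ}
    {U : Type*} [AddCommGroup U] [Module F U] [Nontrivial U] {z : U →ₗ[F] U} (hz : aeval z f = 0) {M : U → U}
    (hMa : ∀ u v, M (u + v) = M u + M v) (hMs : ∀ (a : F) (u : U), M (a • u) = a ^ r ^ i • M u)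
    (hMz : ∀ u, M (z u) = z (M u)) (hM : Function.Surjective M) : ∃ k : ℕ, (r ^ i * Fintype.card F ^ k : ZMod p) = 1 := by
  have := Fact.mk hf
  apply twist_root hfc hpF
  set N := f.natDegree with hN
  set g : F[X] := ∑ m ∈ Finset.range (N + 1), C (f.coeff m ^ r ^ i) * X ^ m with hg
  have hM0 : M 0 = 0 := by
    have h1 := hMa 0 0
    rw [add_zero] at h1
    exact left_eq_add.1 h1
  have hMsum : ∀ (w : Finset ℕ) (φ : ℕ → U), M (∑ m ∈ w, φ m) = ∑ m ∈ w, M (φ m) := by
    intro w φ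
    induction w using Finset.cons_induction with
    | empty => rw [Finset.sum_empty, Finset.sum_empty, hM0]
    | cons a w ha ih => rw [Finset.sum_cons, Finset.sum_cons, hMa, ih]
  have hMpow : ∀ (m : ℕ) (u : U), M ((z ^ m) u) = (z ^ m) (M u) := by
    intro m
    induction m with
    | zero => intro u; rfl
    | succ m ih =>
      intro u
      rw [pow_succ', Module.End.mul_apply, Module.End.mul_apply, hMz, ih]
  have hgz : aeval z g = 0 := by
    apply LinearMap.ext
    intro v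
    obtain ⟨u, rfl⟩ := hM v
    have h1 : aeval z g (M u) = ∑ m ∈ Finset.range (N + 1), (f.coeff m ^ r ^ i) • (z ^ m) (M u) := by
      rw [hg, map_sum, LinearMap.sum_apply]
      refine Finset.sum_congr rfl fun m _ => ?_
      rw [map_mul, aeval_C, aeval_X_pow, Module.End.mul_apply, Module.algebraMap_end_apply]
    have h2 : M (aeval z f u) = ∑ m ∈ Finset.range (N + 1), (f.coeff m ^ r ^ i) • (z ^ m) (M u) := by
      rw [aeval_eq_sum_range, LinearMap.sum_apply, hMsum]
      refine Finset.sum_congr rfl fun m _ => ?_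
      rw [LinearMap.smul_apply, hMs, hMpow]
    rw [h1, ← h2, hz, LinearMap.zero_apply, LinearMap.zero_apply, hM0]
  have hfg : f ∣ g := by
    by_contra h
    obtain ⟨a, b, hab⟩ := (hf.coprime_iff_not_dvd).2 h
    obtain ⟨u, hu⟩ := exists_ne (0 : U)
    apply hu
    have h1 : u = aeval z a (aeval z f u) + aeval z b (aeval z g u) := by
      rw [← Module.End.mul_apply, ← Module.End.mul_apply, ← map_mul, ← map_mul, ← LinearMap.add_apply, ← map_add,
        hab, map_one, Module.End.one_apply]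
    rw [h1, hz, hgz, LinearMap.zero_apply, map_zero, map_zero, add_zero]
  obtain ⟨w, hw⟩ := hfg
  have h1 : aeval (AdjoinRoot.root f) g = 0 := by
    rw [hw, map_mul, AdjoinRoot.aeval_eq, AdjoinRoot.mk_self, zero_mul]
  rw [← h1, hg, map_sum]
  refine Finset.sum_congr rfl fun m _ => ?_
  rw [map_mul, aeval_C, aeval_X_pow]

section Main

variable {F V : Type*} [Field F] [Fintype F] [AddCommGroup V] [Module F V] [FiniteDimensional F V] {Φ : Pol F V}
  {G : Type*} [Group G] [Finite G] {ρ : G →* (V ≃ₗ[F] V)} {p : ℕ} [hp : Fact p.Prime]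

/-- **swap**: `M U ≠ U`. -/
theorem semi_move (hW : WittTS Φ ρ) {r : ℕ} [hr : Fact r.Prime] [CharP F r] (hpF : p.Coprime (Fintype.card F))
    {s : ℕ} (hsp : ∀ n : ℕ, ¬ p ∣ s * Fintype.card F ^ n + 1)
    {f : F[X]} (hf : Irreducible f) (hfc : f ∣ cyclotomic p F) (P : Sylow p G) {U : Submodule F V} (hU : Φ.TI U) (hU0 : U ≠ ⊥)
    (hPU : ∀ g ∈ P, mv ρ g U = U) (hd : f.natDegree ∣ finrank F U)
    {M : V ≃+ V} (hM : SemiAct Φ M) {i : ℕ} (hMi : ∀ (a : F) (v : V), M (a • v) = a ^ r ^ i • M v)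
    (hMc : ∀ g ∈ P, ∀ v : V, M (ρ g v) = ρ g (M v))
    (hsw : ∃ n : ℕ, p ∣ (s * r ^ i) * Fintype.card F ^ n + 1) : hM.sub U ≠ U := by
  intro hMU
  have : Nontrivial U := (Submodule.nontrivial_iff_ne_bot).2 hU0
  obtain ⟨z, hzp, hz⟩ := exists_z (U := U) hf hfc hpF hd
  obtain ⟨a, ha⟩ := exists_conj (sylT hW P hU hPU) hzp
  obtain ⟨g, hg, hgz⟩ := exists_of_mem_sylT hW P hU hPU ha
  have hMm : ∀ u : U, M (u : V) ∈ U := by
    intro u
    have h1 : M (u : V) ∈ hM.sub U := hM.mem_sub.2 u.2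
    rwa [hMU] at h1
  obtain ⟨k, hk⟩ := twist_end (i := i) hf hfc hpF (aeval_conj a z hz) (M := fun u : U => (⟨M (u : V), hMm u⟩ : U))
    (fun u v => Subtype.ext (map_add M (u : V) v)) (fun b u => Subtype.ext (hMi b (u : V)))
    (fun u => by
      apply Subtype.ext
      change M (((a * z * a⁻¹ : U ≃ₗ[F] U) u : U) : V) = (((a * z * a⁻¹ : U ≃ₗ[F] U) ⟨M (u : V), hMm u⟩ : U) : V)
      rw [← hgz, ← hgz, hMc g hg])
    (fun v => by
      have h1 : (v : V) ∈ hM.sub U := by rw [hMU]; exact v.2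
      obtain ⟨u, hu, huv⟩ := h1
      exact ⟨⟨u, hu⟩, Subtype.ext huv⟩)
  obtain ⟨n, hn⟩ := hsw
  -- `r ^ i = q ^ m` modulo `p`
  have hq : IsUnit ((Fintype.card F : ℕ) : ZMod p) := (ZMod.isUnit_iff_coprime _ p).2 hpF.symm
  obtain ⟨c, hc⟩ := hq
  obtain ⟨m, hm⟩ : ∃ m : ℕ, (r ^ i : ZMod p) = (Fintype.card F : ZMod p) ^ m := by
    refine ⟨k * (orderOf c - 1), ?_⟩
    have h1 : (c : ZMod p) ^ (k * (orderOf c - 1)) * (c : ZMod p) ^ k = 1 := by
      rw [← pow_add, ← Units.val_pow_eq_pow_val]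
      have h2 : k * (orderOf c - 1) + k = orderOf c * k := by
        have h3 := orderOf_pos c
        obtain ⟨t, ht⟩ := Nat.exists_eq_succ_of_ne_zero h3.ne'
        rw [ht, Nat.succ_sub_one, Nat.succ_eq_add_one]
        ring
      rw [h2, pow_mul, pow_orderOf_eq_one, one_pow, Units.val_one]
    rw [← hc] at hk ⊢
    calc (r ^ i : ZMod p) = r ^ i * ((c : ZMod p) ^ (k * (orderOf c - 1)) * (c : ZMod p) ^ k) := by rw [h1, mul_one]
      _ = (r ^ i * (c : ZMod p) ^ k) * (c : ZMod p) ^ (k * (orderOf c - 1)) := by ring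
      _ = _ := by rw [hk, one_mul]
  apply hsp (m + n)
  rw [← ZMod.natCast_eq_zero_iff] at hn ⊢
  push_cast at hn ⊢
  rw [hm] at hn
  rw [← hn]
  ring

end Main

end Cfsg.Agent.H88.CY
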